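/-
Sign form for type E6, generated from `Cfsg.Lie.chevE6`.
-/
import Cfsg.Agent.Lib.Chev.Data.E6.Tab

set_option autoImplicit false
set_option maxRecDepth 20000
set_option linter.all false
set_option Elab.async false

namespace CfsgLib.Chev.DataE6

open Cfsg.Lie CfsgLib.Chev.Table

theorem chk_laced_fst : tab.chkLacedRange aux 0 36 = true := by decide +kernel
theorem chk_laced_snd : tab.chkLacedRange aux 36 36 = true := by decide +kernel

theorem laced_pairs : tab.LacedPairs aux := lacedPairs_of_two chk_laced_fst chk_laced_snd (by decide)

end CfsgLib.Chev.DataE6
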